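import Cfsg.Agent.H251.PQ.TorCen
import Cfsg.Agent.H251.PQ.KillD4

/-!
# `r`-subgroups of twisted tori on which no root is trivial (helper251, S4612)

* `mem_norm_of_set` : the centraliser of a subset of the torus on which no root is trivial normalises the torus;
* `not_same_of_root` : the principal blocks for `r` and `l` differ if the torus has an `r`-subgroup on which no root is
  trivial, and order divisible by `l`;
* `two_D4_3` : `KillTwo ³D₄(q) q 3`, `q` odd.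
-/

set_option autoImplicit false
set_option linter.unusedSectionVars false

namespace Cfsg.Agent.H251.PQ

open CoxeterSystem Cfsg Cfsg.Lie Cfsg.Lie.ChevalleyDatum
open Cfsg.Agent.ChevalleyStructure Cfsg.Agent.ChevalleyStructure.Elts Cfsg.Agent.ChevalleyStructure.CoxeterGeom
  Cfsg.Agent.ChevalleyStructure.CoxeterGeomTypes Cfsg.Agent.ChevalleyStructure.NPerm
open Cfsg.Agent.Tits.Roots Cfsg.Agent.Tits.Core Cfsg.Agent.Nodes Cfsg.Agent.Nodes.Reps Cfsg.Agent.Nodes.BNOf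
  Cfsg.Agent.Nodes.RGDChev
open Cfsg.Agent.KFacts.RgdField Cfsg.Agent.KFacts.RgdChevCoord Cfsg.Agent.BpExc.TorCent Cfsg.Agent.BpExc.TorChev
open Cfsg.Agent.GpExc.Field Cfsg.Agent.BpExc.Tow Cfsg.Agent.BpExc.TowChev Cfsg.Agent.BpExc.Fr
  Cfsg.Agent.BpExc.LangFr Cfsg.Agent.LangThm Cfsg.Agent.BpExc Cfsg.Agent.H129.TorusChar Cfsg.Agent.H129.TorusMain
open Cfsg.Agent.H720.TorusReal Cfsg.Agent.Nodes.Unique Cfsg.Agent.H897.T5Cent Cfsg.Agent.H795.SetCent
open Cfsg.Agent.H129 Cfsg.Agent.H317.PQ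
open Cfsg.Agent.ChevalleyStructure.RootVec (rt)

universe u v w

/-- **An `r`-subgroup whose centraliser normalises an abelian subgroup** -/
theorem not_same_of_normal {G : Type u} [Group G] [Finite G] {p l : ℕ} (hp : p.Prime) (hl : l.Prime) (hpl : p ≠ l)
    (E B : Subgroup G) (hE : IsPGroup p E) (hB : IsMulCommutative ↥B) (hEB : E ≤ B)
    (hn : ∀ c ∈ Subgroup.centralizer (E : Set G), ∀ b ∈ B, c * b * c⁻¹ ∈ B)
    (hlB : l ∣ Nat.card B) : ¬ Same p l G := by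
  intro h
  have hBC : B ≤ Subgroup.centralizer (E : Set G) := fun b hb => Subgroup.mem_centralizer_iff.2 fun e he =>
    congrArg Subtype.val (hB.is_comm.comm (⟨e, hEB he⟩ : ↥B) ⟨b, hb⟩)
  have h1 := H358.A3.PQ.of_same hl h
  have h2 := H358.A3.PQ.centralizer_subgroup hp hl hpl h1 E hE
  have hN : (B.subgroupOf (Subgroup.centralizer (E : Set G))).Normal :=
    ⟨fun b hb c => hn c.1 c.2 b.1 hb⟩
  have h3 := H358.A3.PQ.normal hp hl hpl h2 (B.subgroupOf (Subgroup.centralizer (E : Set G)))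
  have h4 := H990.PQ.PQ.core_abelian hp hl hpl h3 ⊤
    ⟨⟨fun a b => by
      have h5 := congrArg Subtype.val (hB.is_comm.comm (⟨a.1.1.1, a.1.2⟩ : ↥B) ⟨b.1.1.1, b.1.2⟩)
      exact Subtype.ext (Subtype.ext (Subtype.ext h5))⟩⟩
    (by rw [Subgroup.index_top]; exact hp.not_dvd_one)
  rw [Subgroup.card_top, Nat.card_congr (Subgroup.subgroupOfEquivOfLe hBC).toEquiv] at h4
  exact h4 hlB

section

variable {D : ChevalleyDatum} {l : ℕ} {M : CoxeterMatrix (Fin l)} (hp : IsType D l M) {k : Type u} [Field k]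
  [IsAlgClosed k] {W : Type v} [Group W] [Finite W] (cs : CoxeterSystem M W) (hk : LocFin k)

include cs hk in
/-- **The centraliser of a subset of the torus** on which no root is trivial normalises the torus. -/
theorem mem_norm_of_set (p : ℕ) [Fact p.Prime] [CharP k p] {Z : Set ↥(D.group k)} (hfin : Z.Finite)
    (hZ : ∀ t ∈ Z, t ∈ TT D k) (hroot : ∀ a, IsRoot cs hp.isCartan a → ∃ t ∈ Z, cX hp t a ≠ 1)
    {c : ↥(D.group k)} (hc : ∀ t ∈ Z, c * t = t * c) {t : ↥(D.group k)} (ht : t ∈ TT D k) :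
    c * t * c⁻¹ ∈ TT D k := by
  have hZ' : Z ⊆ TL (Tj hp (k := k)) := fun t ht => (mem_TL' hp hk).2 (hZ t ht)
  obtain ⟨m, hm, w, kk, hkk, hkt, rfl⟩ := exists_form_centralizer (tow hp cs hk p) (coL hp cs hk p)
    (GG_eq_top hp cs hk) hfin hZ' (c := c) hc
  have hm1 : m = 1 := by
    have h1 : MMZ cs hp.isCartan (XL (Xj hp)) (ch (K := k) hp) Z = ⊥ := by
      rw [eq_bot_iff]
      refine RGD.Sup_le fun a ha => ?_
      exfalso
      obtain ⟨t, ht, h2⟩ := hroot a ha.1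
      apply h2
      rw [cX_root hp cs (hZ t ht) ha.1]
      exact ha.2 t ht
    rw [h1] at hm
    exact Subgroup.mem_bot.1 hm
  rw [hm1, one_mul]
  exact (mem_TL' hp hk).1 ((Subgroup.mem_normalizer_iff.1 hkk.mem_normalizer t).1 ((mem_TL' hp hk).2 ht))

variable {G0 : Type w} [Group G0] [Finite G0] {e0 : G0 →* ↥(D.group k)}

include cs hk in
/-- **Different principal blocks from a torus.** -/
theorem not_same_of_root (p : ℕ) [Fact p.Prime] [CharP k p] (he0 : Function.Injective e0) {z : ↥(D.group k)}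
    {A : Subgroup G0} {ζ : Fin l → k} {d : Fin l → ℕ} {U : Fin l → Fin l → ℤ}
    (hAT : ∀ x ∈ A, z⁻¹ * e0 x * z ∈ TT D k) (hd0 : ∀ i, d i ≠ 0) (hζ : ∀ i, IsPrimitiveRoot (ζ i) (d i))
    (hval : ∀ a : Fin l → ℤ, ∃ x ∈ A, ∀ v, cX hp (z⁻¹ * e0 x * z) v = vl ζ U a v) {r s : ℕ}
    (hr : r.Prime) (hs : s.Prime) (hrs : r ≠ s)
    (m : Fin l → ℕ) (hmd : ∀ i, m i ∣ d i) (hm : ∀ i, ∃ j, m i = r ^ j)
    (hroot : ∀ a, IsRoot cs hp.isCartan a → ¬ ∀ i, (m i : ℤ) ∣ ∑ j, U i j * a j)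
    (hsA : s ∣ Nat.card A) : ¬ Same r s G0 := by
  classical
  let B : Subgroup G0 := (TT D k).comap ((MulAut.conj z⁻¹).toMonoidHom.comp e0)
  have hmem : ∀ x, x ∈ B ↔ z⁻¹ * e0 x * z ∈ TT D k := by
    intro x
    show z⁻¹ * e0 x * (z⁻¹)⁻¹ ∈ TT D k ↔ _
    rw [inv_inv]
  have hAB : A ≤ B := fun x hx => (hmem x).2 (hAT x hx)
  have hcm : ∀ x ∈ B, ∀ y ∈ B, x * y = y * x := by
    intro a ha b hb
    apply he0
    have h1 := TT_comm hp ((hmem a).1 ha) ((hmem b).1 hb)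
    have h2 : z⁻¹ * (e0 a * e0 b) * z = z⁻¹ * (e0 b * e0 a) * z := by
      calc z⁻¹ * (e0 a * e0 b) * z = (z⁻¹ * e0 a * z) * (z⁻¹ * e0 b * z) := by group
        _ = (z⁻¹ * e0 b * z) * (z⁻¹ * e0 a * z) := h1
        _ = _ := by group
    rw [map_mul, map_mul]
    exact mul_left_cancel (mul_right_cancel h2)
  let E : Subgroup G0 :=
    { carrier := {x | x ∈ B ∧ ∃ j : ℕ, x ^ r ^ j = 1}
      one_mem' := ⟨one_mem _, 0, one_pow _⟩
      mul_mem' := by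
        rintro x y ⟨hx, i, hi⟩ ⟨hy, j, hj⟩
        refine ⟨mul_mem hx hy, i + j, ?_⟩
        rw [(show Commute x y from hcm x hx y hy).mul_pow, pow_add, pow_mul, hi, one_pow, one_mul, mul_comm,
          pow_mul, hj, one_pow]
      inv_mem' := by
        rintro x ⟨hx, i, hi⟩
        exact ⟨inv_mem hx, i, by rw [inv_pow, hi, inv_one]⟩ }
  have hEB : E ≤ B := fun x hx => hx.1
  -- the elements
  have hex : ∀ i, ∃ x ∈ E, ∀ v, cX hp (z⁻¹ * e0 x * z) v = 1 ↔ (m i : ℤ) ∣ ∑ j, U i j * v j := by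
    intro i
    obtain ⟨c, hc⟩ := hmd i
    have hm0 : m i ≠ 0 := by rintro h; rw [h, zero_mul] at hc; exact hd0 i hc
    have hc0 : c ≠ 0 := by rintro h; rw [h, mul_zero] at hc; exact hd0 i hc
    obtain ⟨x, hx, hx2⟩ := hval (Pi.single i (c : ℤ))
    have hv : ∀ v, cX hp (z⁻¹ * e0 x * z) v = ζ i ^ ((c : ℤ) * ∑ j, U i j * v j) := by
      intro v
      rw [hx2]
      unfold vl
      rw [Finset.prod_eq_single i]
      · rw [Pi.single_eq_same]
      · intro j _ hj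
        rw [Pi.single_eq_of_ne hj, zero_mul, zpow_zero]
      · intro h
        exact absurd (Finset.mem_univ i) h
    refine ⟨x, ⟨hAB hx, ?_⟩, fun v => ?_⟩
    · obtain ⟨j, hj⟩ := hm i
      refine ⟨j, ?_⟩
      rw [← hj]
      apply he0
      rw [map_one, map_pow]
      have h1 : (z⁻¹ * e0 x * z) ^ m i = 1 := by
        refine cX_inj hp (pow_mem (hAT x hx) _) (one_mem _) fun i' => ?_
        rw [cX_pow hp (hAT x hx), cX_one, hv, ← zpow_natCast, ← zpow_mul]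
        have e1 : (c : ℤ) * (∑ j, U i j * (sr i' : Fin l → ℤ) j) * (m i : ℤ) =
            (d i : ℤ) * ∑ j, U i j * (sr i' : Fin l → ℤ) j := by
          rw [hc]; push_cast; ring
        rw [e1, zpow_mul, zpow_natCast, (hζ i).pow_eq_one, one_zpow]
      have h2 : e0 x = z * (z⁻¹ * e0 x * z) * z⁻¹ := by group
      rw [h2, conj_pow, h1, mul_one, mul_inv_cancel]
    · rw [hv, (hζ i).zpow_eq_one_iff_dvd, hc]
      push_cast
      rw [mul_comm (m i : ℤ) (c : ℤ)]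
      exact mul_dvd_mul_iff_left (Nat.cast_ne_zero.2 hc0)
  choose x hxE hx using hex
  refine not_same_of_normal hr hs hrs E B ?_ ⟨⟨fun a b => Subtype.ext (hcm a a.2 b b.2)⟩⟩ hEB ?_
    (hsA.trans (Subgroup.card_dvd_of_le hAB))
  · rintro ⟨y, hy⟩
    obtain ⟨j, hj⟩ := hy.2
    exact ⟨j, Subtype.ext hj⟩
  · intro c hc b hb
    rw [hmem] at hb ⊢
    have h1 := mem_norm_of_set hp cs hk p (Z := (fun y : G0 => z⁻¹ * e0 y * z) '' (E : Set G0)) (Set.toFinite _)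
      (c := z⁻¹ * e0 c * z) ?_ ?_ ?_ hb
    · convert h1 using 1
      rw [map_mul, map_mul, map_inv]
      group
    · rintro _ ⟨y, hy, rfl⟩
      exact (hmem y).1 (hEB hy)
    · intro a ha
      have h1 := hroot a ha
      push Not at h1
      obtain ⟨i, hi⟩ := h1
      exact ⟨_, ⟨x i, hxE i, rfl⟩, fun h => hi ((hx i a).1 h)⟩
    · rintro _ ⟨y, hy, rfl⟩
      have h1 : y * c = c * y := Subgroup.mem_centralizer_iff.1 hc y hy
      show z⁻¹ * e0 c * z * (z⁻¹ * e0 y * z) = z⁻¹ * e0 y * z * (z⁻¹ * e0 c * z)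
      calc z⁻¹ * e0 c * z * (z⁻¹ * e0 y * z) = z⁻¹ * (e0 c * e0 y) * z := by group
        _ = z⁻¹ * (e0 y * e0 c) * z := by rw [← map_mul, ← h1, map_mul]
        _ = _ := by group

end

/-! ### `³D₄(q)` -/

/-- the functionals for the torus `(q³-1)(q-1)` -/
def uD4o (q : ℤ) : Fin 4 → Fin 4 → ℤ := ![![1, 0, q, q ^ 2], ![0, 1, 0, 0], ![0, 0, 1, 0], ![0, 0, 0, 1]]

def vD4o (q : ℤ) : Fin 4 → Fin 4 → ℤ := ![![1, 0, 0, 0], ![0, 1, 0, 0], ![-q, 0, 1, 0], ![-q ^ 2, 0, 0, 1]]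

theorem uvD4o (q : ℤ) : ∀ i j, ∑ m, uD4o q i m * vD4o q j m = if i = j then 1 else 0 := by
  intro i j
  fin_cases i <;> fin_cases j <;> simp [uD4o, vD4o, Fin.sum_univ_succ]

theorem dvD4o (q N n : ℕ) (hN : (N : ℤ) = (q : ℤ) ^ 3 - 1) (hn : (n : ℤ) = (q : ℤ) - 1) :
    ∀ i m, ((![N, n, 1, 1] : Fin 4 → ℕ) i : ℤ) ∣ ∑ j, uD4o q i j *
      (WData.hd ([] : List (Fin 4 × WData.Mat 4)) ((![2, 1, 3, 0] : Fin 4 → Fin 4) m) j -
        (q : ℤ) * (if m = j then 1 else 0)) := by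
  intro i m
  fin_cases i <;> fin_cases m <;> simp [WData.hd, uD4o, Fin.sum_univ_succ, hN, hn] <;>
    first | done | (refine ⟨0, ?_⟩; ring1) | (refine ⟨-1, ?_⟩; ring1) | (refine ⟨1, ?_⟩; ring1)

theorem rootD4 : ∀ r : Fin chevD4.nroots,
    ¬ ((2 : ℤ) ∣ rt chevD4 r 0 + rt chevD4 r 2 + rt chevD4 r 3 ∧ (2 : ℤ) ∣ rt chevD4 r 1) := by
  decide +kernel

/-- **`KillTwo ³D₄(q) q 3`**, all odd `q` -/
theorem two_D4_3 {K : Type v} [Field K] [Fintype K] {q : ℕ} (hq : IsPrimePow q) (hK : Fintype.card K = q ^ 3)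
    (h2 : q % 2 = 1) : KillTwo ↥(twistedD4 K q) q 3 := by
  intro s hs hs2 _ h3
  have := Fact.mk hs
  obtain ⟨p, e, hpF, hpc, hpk, he, hqe, hk⟩ := closure_D4 hq hK
  have hq1 : 1 < q := hq.one_lt
  have h0 : 1 ≤ q := hq1.le
  have h03 : 1 ≤ q ^ 3 := Nat.one_le_pow _ _ h0
  have hN : ((q ^ 3 - 1 : ℕ) : ℤ) = (q : ℤ) ^ 3 - 1 := by push_cast [Nat.cast_sub h03]; ring
  have hn : ((q - 1 : ℕ) : ℤ) = (q : ℤ) - 1 := by push_cast [Nat.cast_sub h0]; ring
  obtain ⟨z, A, ζ, hA, -, hT, hζ, hval⟩ := exists_tor_D4 hq hK (L := []) trivial ![q ^ 3 - 1, q - 1, 1, 1]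
    (by
      intro i
      fin_cases i
      · exact Nat.isCoprime_iff_coprime.1 ⟨-1, (q : ℤ) ^ 2, by
          show -1 * ((q ^ 3 - 1 : ℕ) : ℤ) + (q : ℤ) ^ 2 * (q : ℤ) = 1
          rw [hN]; ring⟩
      · exact Nat.isCoprime_iff_coprime.1 ⟨-1, 1, by
          show -1 * ((q - 1 : ℕ) : ℤ) + 1 * (q : ℤ) = 1
          rw [hn]; ring⟩
      · exact Nat.coprime_one_left q
      · exact Nat.coprime_one_left q)
    (uD4o q) (vD4o q) (uvD4o q) (dvD4o q _ _ hN hn)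
  have h23 : 2 ∣ q ^ 3 - 1 := by
    have h4 : q ^ 3 % 2 = 1 := by rw [Nat.pow_mod, h2]
    omega
  refine not_same_of_root RGDTwD4.hp coxeterD4.toCoxeterSystem hk p (TriD4.embT_injective _ hq hK) hT
    (by
      intro i
      fin_cases i
      · show q ^ 3 - 1 ≠ 0
        have : 2 ^ 3 ≤ q ^ 3 := Nat.pow_le_pow_left hq1 3
        omega
      · show q - 1 ≠ 0
        omega
      · exact one_ne_zero
      · exact one_ne_zero) hζ hval Nat.prime_two hs hs2.symm ![2, 2, 1, 1] ?_ ?_ ?_ ?_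
  · intro i
    fin_cases i
    · exact h23
    · show 2 ∣ q - 1
      omega
    · exact one_dvd _
    · exact one_dvd _
  · intro i
    fin_cases i
    · exact ⟨1, rfl⟩
    · exact ⟨1, rfl⟩
    · exact ⟨0, rfl⟩
    · exact ⟨0, rfl⟩
  · intro a ha hd
    obtain ⟨r, hr, hra⟩ := (RGDChev.isRoot_iff RGDTwD4.hp coxeterD4.toCoxeterSystem a).1 ha
    refine rootD4 ⟨r, hr⟩ ?_
    have h4 : (2 : ℤ) ∣ ∑ j, uD4o q 0 j * a j := hd 0
    have h5 : (2 : ℤ) ∣ ∑ j, uD4o q 1 j * a j := hd 1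
    have e4 : ∑ j, uD4o q 0 j * a j = a 0 + q * a 2 + q ^ 2 * a 3 := by
      simp [uD4o, Fin.sum_univ_succ]; ring
    have e5 : ∑ j, uD4o q 1 j * a j = a 1 := by
      simp [uD4o, Fin.sum_univ_succ]
    rw [e4] at h4
    rw [e5] at h5
    rw [← hra] at h4 h5
    refine ⟨?_, h5⟩
    change (2 : ℤ) ∣ rt chevD4 r 0 + q * rt chevD4 r 2 + q ^ 2 * rt chevD4 r 3 at h4
    obtain ⟨t, ht⟩ : ∃ t : ℤ, (q : ℤ) = 2 * t + 1 := ⟨((q / 2 : ℕ) : ℤ), by push_cast; omega⟩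
    have e6 : rt chevD4 r 0 + rt chevD4 r 2 + rt chevD4 r 3 = (rt chevD4 r 0 + q * rt chevD4 r 2 + q ^ 2 * rt chevD4 r 3)
        - 2 * (t * rt chevD4 r 2 + (2 * t ^ 2 + 2 * t) * rt chevD4 r 3) := by
      rw [ht]; ring
    show (2 : ℤ) ∣ rt chevD4 r 0 + rt chevD4 r 2 + rt chevD4 r 3
    rw [e6]
    exact dvd_sub h4 (dvd_mul_right _ _)
  · have h4 := rel3 h3
    rw [hA]
    have h5 : s ∣ q ^ 3 - 1 := by
      rw [← Int.natCast_dvd_natCast, hN, ← ZMod.intCast_zmod_eq_zero_iff_dvd]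
      push_cast
      linear_combination ((q : ZMod s) - 1) * h4
    exact h5.trans (Finset.dvd_prod_of_mem (![q ^ 3 - 1, q - 1, 1, 1] : Fin 4 → ℕ) (Finset.mem_univ 0))

end Cfsg.Agent.H251.PQ
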